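import Groth.Agent.Lib.LocProp.SmoothDescendFlat
import Groth.Agent.Lib.HypersurfaceSmooth
import Groth.Agent.Lib.CMFree.Regular
import Mathlib.RingTheory.Smooth.Kaehler
import Mathlib.RingTheory.LocalRing.Module

/-!
# Smooth hypersurfaces through a point, local algebra
-/

set_option backward.isDefEq.respectTransparency false
set_option linter.style.haveILetI false

universe u

open TensorProduct IsLocalRing

namespace GrothLib.SmoothDiv6

/-- An essentially finite type formally smooth local algebra over a field is regular. -/
theorem isRegularLocalRing_of_formallySmooth_field (k B : Type u) [Field k] [CommRing B] [IsLocalRing B]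
    [Algebra k B] [Algebra.EssFiniteType k B] [Algebra.FormallySmooth k B] : IsRegularLocalRing B := by
  let A := Algebra.EssFiniteType.subalgebra k B
  let P : Ideal A := (maximalIdeal B).comap (algebraMap A B)
  have hP : P.primeCompl = Algebra.EssFiniteType.submonoid k B := by
    ext a
    show ¬ algebraMap A B a ∈ maximalIdeal B ↔ IsUnit (algebraMap A B a)
    exact IsLocalRing.notMem_maximalIdeal
  haveI : IsLocalization P.primeCompl B :=
    hP ▸ (inferInstance : IsLocalization (Algebra.EssFiniteType.submonoid k B) B)
  let e : Localization.AtPrime P ≃ₐ[A] B := IsLocalization.algEquiv P.primeCompl _ _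
  haveI : Algebra.FinitePresentation k A := Algebra.FinitePresentation.of_finiteType.1 inferInstance
  haveI : Algebra.IsSmoothAt k P := Algebra.FormallySmooth.of_equiv (e.restrictScalars k).symm
  haveI := GrothLib.LocProp.isRegularLocalRing_of_isSmoothAt_field (k := k) P
  exact IsRegularLocalRing.of_ringEquiv e.toRingEquiv

variable {R P : Type u} [CommRing R] [CommRing P] [IsLocalRing P] [Algebra R P]

/-- A differential which is nonzero at the closed point is normalised by a derivation. -/
theorem exists_derivation_eq_one [Algebra.FormallySmooth R P] [Algebra.EssFiniteType R P] (h : P)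
    (hd : (1 : ResidueField P) ⊗ₜ[P] KaehlerDifferential.D R P h ≠ 0) :
    ∃ δ : Derivation R P P, δ h = 1 := by
  classical
  haveI : Module.Projective P Ω[P⁄R] := inferInstance
  haveI : Module.Flat P Ω[P⁄R] := inferInstance
  haveI : Module.Free P Ω[P⁄R] := Module.free_of_flat_of_isLocalRing
  let b := Module.Free.chooseBasis P Ω[P⁄R]
  obtain ⟨i, hi⟩ : ∃ i, IsUnit (b.repr (KaehlerDifferential.D R P h) i) := by
    by_contra! hall
    refine hd ?_
    rw [← b.linearCombination_repr (KaehlerDifferential.D R P h), Finsupp.linearCombination_apply,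
      Finsupp.sum, TensorProduct.tmul_sum]
    refine Finset.sum_eq_zero fun i _ => ?_
    rw [TensorProduct.tmul_smul, TensorProduct.smul_tmul', Algebra.smul_def, mul_one,
      ResidueField.algebraMap_eq, (residue_eq_zero_iff _).2 ((IsLocalRing.mem_maximalIdeal _).2 (hall i)),
      TensorProduct.zero_tmul]
  let φ : Ω[P⁄R] →ₗ[P] P := (↑hi.unit⁻¹ : P) • b.coord i
  refine ⟨φ.compDer (KaehlerDifferential.D R P), ?_⟩
  show (↑hi.unit⁻¹ : P) * b.repr (KaehlerDifferential.D R P h) i = 1
  exact hi.val_inv_mul

/-- The hypersurface of an element with a normalising derivation is formally smooth. -/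
theorem formallySmooth_quotient [Algebra.FormallySmooth R P] (h : P) (δ : Derivation R P P) (hδ : δ h = 1) :
    Algebra.FormallySmooth R (P ⧸ Ideal.span {h}) :=
  GrothLib.HypersurfaceSmooth.formallySmooth_quotient h δ.liftKaehlerDifferential (by
    rw [Derivation.liftKaehlerDifferential_comp_D, hδ, sub_self]
    exact Ideal.zero_mem _)

/-- Such an element is a nonzerodivisor in the closed fibre. -/
theorem mk_mem_nonZeroDivisors [IsLocalRing R] [IsLocalHom (algebraMap R P)] [Algebra.FormallySmooth R P]
    [Algebra.EssFiniteType R P] (h : P) (hm : h ∈ maximalIdeal P) (δ : Derivation R P P) (hδ : δ h = 1) :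
    Ideal.Quotient.mk ((maximalIdeal R).map (algebraMap R P)) h ∈
      nonZeroDivisors (P ⧸ (maximalIdeal R).map (algebraMap R P)) := by
  let J := (maximalIdeal R).map (algebraMap R P)
  have hJ : J ≤ maximalIdeal P := Ideal.map_le_iff_le_comap.2 fun t ht => map_nonunit (algebraMap R P) t ht
  haveI : Nontrivial (P ⧸ J) := Ideal.Quotient.nontrivial_iff.2 (ne_top_of_le_ne_top (maximalIdeal.isMaximal P).ne_top hJ)
  haveI : IsLocalRing (P ⧸ J) := .of_surjective' (Ideal.Quotient.mk J) Ideal.Quotient.mk_surjective
  let k := ResidueField R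
  let F := k ⊗[R] P
  let e : (P ⧸ J) ≃+* F :=
    ((Algebra.TensorProduct.quotIdealMapEquivQuotTensor P (maximalIdeal R)).toRingEquiv :
      (P ⧸ J) ≃+* (R ⧸ maximalIdeal R) ⊗[R] P)
  haveI : IsLocalRing F := e.isLocalRing
  haveI : Algebra.EssFiniteType k F := inferInstance
  haveI : Algebra.FormallySmooth k F := inferInstance
  haveI : IsRegularLocalRing F := isRegularLocalRing_of_formallySmooth_field k F
  haveI : IsDomain F := GrothLib.CMFree.isDomain_of_isRegularLocalRing F
  haveI : IsDomain (P ⧸ J) := e.toMulEquiv.isDomain F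
  refine mem_nonZeroDivisors_of_ne_zero fun h0 => ?_
  have hh : h ∈ J := Ideal.Quotient.eq_zero_iff_mem.1 h0
  have h1 : δ h ∈ maximalIdeal P := by
    clear h0
    refine Submodule.span_induction (p := fun y _ => δ y ∈ maximalIdeal P) ?_ ?_ ?_ ?_ hh
    · rintro _ ⟨t, -, rfl⟩
      rw [Derivation.map_algebraMap]
      exact zero_mem _
    · rw [map_zero]
      exact zero_mem _
    · intro a b _ _ ha hb
      rw [map_add]
      exact add_mem ha hb
    · intro a b hb hδb
      rw [smul_eq_mul, Derivation.leibniz]
      exact add_mem (Ideal.mul_mem_left _ _ hδb) (Ideal.mul_mem_right _ _ (hJ hb))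
  rw [hδ] at h1
  exact (maximalIdeal.isMaximal P).ne_top ((Ideal.eq_top_iff_one _).2 h1)

end GrothLib.SmoothDiv6
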