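import Groth.Agent.Lib.SmoothDiv6.Scheme

/-!
# Smooth effective Cartier divisors through a point, smooth near the point
-/

set_option backward.isDefEq.respectTransparency false
set_option linter.style.haveILetI false

universe u

open CategoryTheory Limits AlgebraicGeometry IsLocalRing TensorProduct

namespace GrothLib.SmoothDiv6

/-- Smooth near a point implies formally smooth and essentially of finite type at the point. -/
theorem stalkMap_formallySmooth {X S : Scheme.{u}} (f : X ⟶ S) (x : X) (W : X.Opens) (hxW : x ∈ W)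
    (hW : Smooth (W.ι ≫ f)) :
    (f.stalkMap x).hom.FormallySmooth ∧ (f.stalkMap x).hom.EssFiniteType := by
  let w : W.toScheme := ⟨x, hxW⟩
  let σ := (asIso (W.ι.stalkMap w)).commRingCatIsoToRingEquiv
  have hc : (f.stalkMap x).hom = σ.symm.toRingHom.comp ((W.ι ≫ f).stalkMap w).hom := by
    rw [Scheme.Hom.stalkMap_comp]
    ext a
    exact (σ.symm_apply_apply _).symm
  have h0 : w ∈ (W.ι ≫ f).smoothLocus := by rw [Scheme.Hom.smoothLocus_eq_top]; trivial
  refine ⟨?_, ?_⟩
  · rw [hc]
    exact RingHom.FormallySmooth.respectsIso.1 _ _ (Scheme.Hom.mem_smoothLocus.1 h0)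
  · rw [hc]
    exact RingHom.EssFiniteType.comp (LocallyOfFiniteType.stalkMap (W.ι ≫ f) w)
      (RingHom.FiniteType.of_surjective _ σ.symm.surjective).essFiniteType

/-- An element with nonzero differential at the point cuts out a smooth divisor near it. -/
theorem exists_nhd_of_differential {X S : Scheme.{u}} (f : X ⟶ S) (x : X)
    (W : X.Opens) (hxW : x ∈ W) (hW : Smooth (W.ι ≫ f))
    (h : ↑(X.presheaf.stalk x)) (hm : h ∈ maximalIdeal ↑(X.presheaf.stalk x))
    (hd : letI := (f.stalkMap x).hom.toAlgebra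
      (1 : ResidueField ↑(X.presheaf.stalk x)) ⊗ₜ[↑(X.presheaf.stalk x)]
          (KaehlerDifferential.D ↑(S.presheaf.stalk (f x)) ↑(X.presheaf.stalk x) h) ≠ 0) :
    ∃ (U : X.Opens) (hU : IsAffineOpen U) (hx : x ∈ U) (h' : Γ(X, U)), X.presheaf.germ U x hx h' = h ∧
      h' ∈ nonZeroDivisors Γ(X, U) ∧
      Smooth (Spec.map (CommRingCat.ofHom (Ideal.Quotient.mk (Ideal.span {h'}))) ≫ hU.fromSpec ≫ f) := by
  let R := S.presheaf.stalk (f x)
  let P := X.presheaf.stalk x
  obtain ⟨hfs, hef⟩ := stalkMap_formallySmooth f x W hxW hW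
  letI : Algebra R P := (f.stalkMap x).hom.toAlgebra
  haveI : Algebra.FormallySmooth R P := hfs
  haveI : Algebra.EssFiniteType R P := hef
  obtain ⟨δ, hδ⟩ := exists_derivation_eq_one h hd
  let w : W.toScheme := ⟨x, hxW⟩
  let σ := (asIso (W.ι.stalkMap w)).commRingCatIsoToRingEquiv
  haveI : Smooth (W.ι ≫ f) := hW
  obtain ⟨U, hU, hwU, h', hgerm, hnz, hsm⟩ := exists_nhd (W.ι ≫ f) w (σ h)
    (by
      rw [IsLocalRing.mem_maximalIdeal, mem_nonunits_iff, MulEquiv.isUnit_map]
      exact hm)
    (by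
      let R' := S.presheaf.stalk ((W.ι ≫ f) w)
      let P' := W.toScheme.presheaf.stalk w
      letI : Algebra R' P' := ((W.ι ≫ f).stalkMap w).hom.toAlgebra
      have hc : ∀ a, algebraMap R' P' a = σ (algebraMap R P a) := fun a => by
        show ((W.ι ≫ f).stalkMap w).hom a = _
        rw [Scheme.Hom.stalkMap_comp]
        rfl
      let l : P' →ₗ[R'] P' :=
        { toFun := fun y => σ (δ (σ.symm y))
          map_add' := fun y z => by rw [map_add, map_add, map_add]
          map_smul' := fun a y => by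
            rw [RingHom.id_apply, Algebra.smul_def, Algebra.smul_def, hc, map_mul, σ.symm_apply_apply,
              Derivation.leibniz, Derivation.map_algebraMap, smul_zero, add_zero, smul_eq_mul, map_mul] }
      refine ⟨Derivation.mk' l fun y z => ?_, ?_⟩
      · show σ (δ (σ.symm (y * z))) = y • σ (δ (σ.symm z)) + z • σ (δ (σ.symm y))
        rw [map_mul, Derivation.leibniz, map_add, smul_eq_mul, smul_eq_mul, smul_eq_mul, smul_eq_mul, map_mul, map_mul,
          σ.apply_symm_apply, σ.apply_symm_apply]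
      · show σ (δ (σ.symm (σ h))) = 1
        rw [σ.symm_apply_apply, hδ, map_one])
  let U' : X.Opens := W.ι ''ᵁ U
  have hU' : IsAffineOpen U' := hU.image_of_isOpenImmersion W.ι
  have e : U ≤ W.ι ⁻¹ᵁ U' := (W.ι.preimage_image_eq U).ge
  let φ := W.ι.appLE U' U e
  haveI : IsIso φ := by
    show IsIso (W.ι.appLE (W.ι ''ᵁ U) U _)
    rw [← Scheme.Hom.appIso_hom']
    infer_instance
  let h'' : Γ(X, U') := (asIso φ).inv h'
  have hφ : φ h'' = h' := CommRingCat.id_apply .. ▸ ConcreteCategory.congr_hom (asIso φ).inv_hom_id h'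
  have hxU : x ∈ U' := ⟨w, hwU, rfl⟩
  refine ⟨U', hU', hxU, h'', ?_, ?_, ?_⟩
  · apply σ.injective
    rw [← hgerm, ← hφ]
    show W.ι.stalkMap w (X.presheaf.germ U' (W.ι w) hxU h'') = _
    rw [Scheme.Hom.germ_stalkMap_apply]
    exact (TopCat.Presheaf.germ_res_apply W.toScheme.presheaf (homOfLE e) w hwU _).symm
  · exact mem_nonZeroDivisors_of_injective (f := φ.hom) (asIso φ).commRingCatIsoToRingEquiv.injective
      (hφ.symm ▸ hnz)
  · have hq : (Ideal.span {h'}) = (Ideal.span {h''}).map (asIso φ).commRingCatIsoToRingEquiv.toRingHom := by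
      rw [Ideal.map_span, Set.image_singleton]
      exact congrArg (fun z => Ideal.span {z}) hφ.symm
    let θ := (Ideal.quotientEquiv (Ideal.span {h''}) (Ideal.span {h'}) (asIso φ).commRingCatIsoToRingEquiv hq).toCommRingCatIso
    have h2 : φ ≫ CommRingCat.ofHom (Ideal.Quotient.mk (Ideal.span {h'})) =
        CommRingCat.ofHom (Ideal.Quotient.mk (Ideal.span {h''})) ≫ θ.hom := rfl
    rw [← Category.assoc hU.fromSpec, ← IsAffineOpen.SpecMap_appLE_fromSpec W.ι hU' hU e, Category.assoc,
      ← Category.assoc, ← Spec.map_comp, h2, Spec.map_comp, Category.assoc,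
      MorphismProperty.cancel_left_of_respectsIso @Smooth] at hsm
    exact hsm

end GrothLib.SmoothDiv6
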