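import Groth.Agent.Lib.SmoothDiv6.Alg

/-!
# A separable residue extension gives a nonzero differential in the maximal ideal
-/

set_option backward.isDefEq.respectTransparency false
set_option linter.style.haveILetI false

universe u

open TensorProduct IsLocalRing

namespace GrothLib.SmoothDiv6

variable {R P : Type u} [CommRing R] [CommRing P] [IsLocalRing R] [IsLocalRing P] [Algebra R P]
  [IsLocalHom (algebraMap R P)]

theorem exists_mem_differential_ne_zero [Algebra.EssFiniteType R P]
    (hsep : Algebra.FormallySmooth (ResidueField R) (ResidueField P))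
    (hne : ¬ maximalIdeal P ≤ (maximalIdeal R).map (algebraMap R P)) :
    ∃ h ∈ maximalIdeal P, (1 : ResidueField P) ⊗ₜ[P] KaehlerDifferential.D R P h ≠ 0 := by
  let J := (maximalIdeal R).map (algebraMap R P)
  let k := ResidueField R
  let κ := ResidueField P
  let Q := P ⧸ J
  have hJ : J ≤ maximalIdeal P := Ideal.map_le_iff_le_comap.2 fun t ht => map_nonunit (algebraMap R P) t ht
  haveI : Nontrivial Q := Ideal.Quotient.nontrivial_iff.2 (ne_top_of_le_ne_top (maximalIdeal.isMaximal P).ne_top hJ)
  haveI : IsLocalRing Q := .of_surjective' (Ideal.Quotient.mk J) Ideal.Quotient.mk_surjective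
  letI : Algebra k Q := (Ideal.Quotient.lift (maximalIdeal R) (algebraMap R Q)
    (fun t ht => Ideal.Quotient.eq_zero_iff_mem.2 (Ideal.mem_map_of_mem _ ht))).toAlgebra
  haveI : IsScalarTower R k Q := IsScalarTower.of_algebraMap_eq fun _ => rfl
  haveI : Algebra.EssFiniteType R Q := Algebra.EssFiniteType.comp R P Q
  haveI : Algebra.EssFiniteType k Q := Algebra.EssFiniteType.of_comp R k Q
  haveI : IsNoetherianRing Q := Algebra.EssFiniteType.isNoetherianRing k Q
  let ρ : Q →+* κ := Ideal.Quotient.lift J (residue P) fun a ha => (residue_eq_zero_iff _).2 (hJ ha)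
  letI : Algebra Q κ := ρ.toAlgebra
  haveI : IsScalarTower P Q κ := IsScalarTower.of_algebraMap_eq fun _ => rfl
  haveI : IsScalarTower R Q κ := IsScalarTower.of_algebraMap_eq fun a => by
    rw [IsScalarTower.algebraMap_apply R P κ, IsScalarTower.algebraMap_apply R P Q]
    rfl
  haveI : IsScalarTower k Q κ := IsScalarTower.of_algebraMap_eq fun c => by
    obtain ⟨a, rfl⟩ := residue_surjective c
    show algebraMap k κ (algebraMap R k a) = algebraMap Q κ (algebraMap k Q (algebraMap R k a))
    rw [← IsScalarTower.algebraMap_apply R k κ, ← IsScalarTower.algebraMap_apply R k Q,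
      ← IsScalarTower.algebraMap_apply R Q κ]
  haveI := hsep
  have hsurj : Function.Surjective (algebraMap Q κ) := fun c => by
    obtain ⟨b, rfl⟩ := residue_surjective c
    exact ⟨Ideal.Quotient.mk J b, rfl⟩
  let I := RingHom.ker (algebraMap Q κ)
  have hI : I = maximalIdeal Q := eq_maximalIdeal (RingHom.ker_isMaximal_of_surjective _ hsurj)
  obtain ⟨y, hy, hy2⟩ : ∃ y ∈ I, y ∉ I ^ 2 := by
    by_contra! hall
    refine hne fun b hb => ?_
    have hle : I ≤ I * I := fun z hz => pow_two I ▸ hall z hz
    have : I = ⊥ := Submodule.eq_bot_of_le_smul_of_le_jacobson_bot I I (IsNoetherian.noetherian I) hle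
      (hI ▸ (jacobson_eq_maximalIdeal ⊥ bot_ne_top).ge)
    rw [← Ideal.Quotient.eq_zero_iff_mem, ← Ideal.mem_bot, ← this]
    exact (residue_eq_zero_iff b).2 hb
  obtain ⟨h, rfl⟩ := Ideal.Quotient.mk_surjective y
  refine ⟨h, (residue_eq_zero_iff h).1 hy, fun h0 => hy2 ?_⟩
  let Q' := Q ⧸ I ^ 2
  have hnil : (I.map (Ideal.Quotient.mk (I ^ 2))) ^ 2 = ⊥ := by
    rw [← Ideal.map_pow, Ideal.map_quotient_self]
  let π : Q' →ₐ[k] κ := Ideal.Quotient.liftₐ (I ^ 2) (IsScalarTower.toAlgHom k Q κ)
    fun z hz => Ideal.pow_le_self two_ne_zero hz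
  have hπ : Function.Surjective π := fun c => by
    obtain ⟨z, rfl⟩ := hsurj c
    exact ⟨Ideal.Quotient.mk _ z, rfl⟩
  have hπker : RingHom.ker π = I.map (Ideal.Quotient.mk (I ^ 2)) := Ideal.ker_quotient_lift _ _
  let σ : κ →ₐ[k] Q' := Algebra.FormallySmooth.liftOfSurjective (AlgHom.id k κ) π hπ ⟨2, (congrArg (· ^ 2) hπker).trans hnil⟩
  have hσ : ∀ c, π (σ c) = c := Algebra.FormallySmooth.liftOfSurjective_apply _ _ _ _
  let q : P →+* Q' := (Ideal.Quotient.mk (I ^ 2)).comp (Ideal.Quotient.mk J)
  have hmem : ∀ b, q b - σ (residue P b) ∈ I.map (Ideal.Quotient.mk (I ^ 2)) := fun b => by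
    rw [← hπker, RingHom.mem_ker, map_sub, hσ]
    exact sub_self (residue P b)
  have hprod : ∀ u v : Q', u ∈ I.map (Ideal.Quotient.mk (I ^ 2)) → v ∈ I.map (Ideal.Quotient.mk (I ^ 2)) → u * v = 0 :=
    fun u v hu hv => by
      have := Ideal.mul_mem_mul hu hv
      rwa [(pow_two (I.map (Ideal.Quotient.mk (I ^ 2)))).symm.trans hnil, Ideal.mem_bot] at this
  letI : Module P Q' := Module.compHom Q' q
  haveI : IsScalarTower R P Q' := ⟨fun a b z => by
    show q (a • b) * z = a • (q b * z)
    rw [← smul_mul_assoc]
    rfl⟩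
  let d : Derivation R P Q' := Derivation.mk'
    { toFun := fun b => q b - σ (residue P b)
      map_add' := fun a b => by rw [map_add, map_add, map_add]; ring
      map_smul' := fun a b => by
        have h1 : q (a • b) = a • q b := rfl
        have h2 : σ (residue P (a • b)) = a • σ (residue P b) := by
          refine (congrArg σ (show residue P (a • b) = a • residue P b from rfl)).trans ?_
          exact map_smul (σ.restrictScalars R).toLinearMap a (residue P b)
        rw [RingHom.id_apply, h1, h2, smul_sub] }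
    (fun a b => by
      show q (a * b) - σ (residue P (a * b)) = q a * (q b - σ (residue P b)) + q b * (q a - σ (residue P a))
      rw [map_mul, map_mul, map_mul, ← sub_eq_zero]
      rw [show q a * q b - σ (residue P a) * σ (residue P b) -
        (q a * (q b - σ (residue P b)) + q b * (q a - σ (residue P a))) =
        -((q a - σ (residue P a)) * (q b - σ (residue P b))) by ring, hprod _ _ (hmem a) (hmem b), neg_zero])
  let L := d.liftKaehlerDifferential
  have hL : ∀ w, L w ∈ I.map (Ideal.Quotient.mk (I ^ 2)) := fun w => by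
    have hw : w ∈ Submodule.span P (Set.range (KaehlerDifferential.D R P)) := by
      rw [KaehlerDifferential.span_range_derivation]; trivial
    induction hw using Submodule.span_induction with
    | mem z hz =>
      obtain ⟨b, rfl⟩ := hz
      rw [Derivation.liftKaehlerDifferential_comp_D]
      exact hmem b
    | zero => rw [map_zero]; exact zero_mem _
    | add a b _ _ ha hb => rw [map_add]; exact add_mem ha hb
    | smul a z _ hz => rw [map_smul]; exact Ideal.mul_mem_left _ (q a) hz
  have hDh : KaehlerDifferential.D R P h ∈ maximalIdeal P • (⊤ : Submodule P Ω[P⁄R]) := by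
    have := congrArg (TensorProduct.quotTensorEquivQuotSMul Ω[P⁄R] (maximalIdeal P)) h0
    rw [map_zero, show (1 : κ) = Ideal.Quotient.mk (maximalIdeal P) (1 : P) from rfl] at this
    erw [TensorProduct.quotTensorEquivQuotSMul_mk_tmul, one_smul, Submodule.Quotient.mk_eq_zero] at this
    exact this
  have hzero : ∀ w ∈ maximalIdeal P • (⊤ : Submodule P Ω[P⁄R]), L w = 0 := fun w hw => by
    refine Submodule.smul_induction_on hw (fun r hr n _ => ?_) fun a b ha hb => by rw [map_add, ha, hb, add_zero]
    rw [map_smul]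
    refine hprod (q r) _ ?_ (hL n)
    have := hmem r
    rwa [(residue_eq_zero_iff r).2 hr, map_zero, sub_zero] at this
  have := hzero _ hDh
  rw [Derivation.liftKaehlerDifferential_comp_D] at this
  change q h - σ (residue P h) = 0 at this
  rw [show residue P h = 0 from hy, map_zero, sub_zero] at this
  exact Ideal.Quotient.eq_zero_iff_mem.1 this

end GrothLib.SmoothDiv6
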