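import Groth.Agent.Lib.SmoothDiv6.Alg
import Groth.Agent.S1348
import Mathlib.AlgebraicGeometry.Morphisms.Smooth
import Mathlib.RingTheory.Localization.BaseChange

/-!
# Smooth effective Cartier divisors through a point
-/

set_option backward.isDefEq.respectTransparency false
set_option linter.style.haveILetI false

universe u

open CategoryTheory Limits AlgebraicGeometry IsLocalRing

namespace GrothLib.SmoothDiv6

/-- An element with a normalising derivation cuts out a smooth divisor near the point. -/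
theorem exists_nhd {X S : Scheme.{u}} (f : X ⟶ S) [Smooth f] (x : X) (h : X.presheaf.stalk x)
    (hm : h ∈ maximalIdeal (X.presheaf.stalk x))
    (hδ : letI := (f.stalkMap x).hom.toAlgebra
      ∃ δ : Derivation (S.presheaf.stalk (f x)) (X.presheaf.stalk x) (X.presheaf.stalk x), δ h = 1) :
    ∃ (U : X.Opens) (hU : IsAffineOpen U) (hx : x ∈ U) (h' : Γ(X, U)), X.presheaf.germ U x hx h' = h ∧
      h' ∈ nonZeroDivisors Γ(X, U) ∧
      Smooth (Spec.map (CommRingCat.ofHom (Ideal.Quotient.mk (Ideal.span {h'}))) ≫ hU.fromSpec ≫ f) := by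
  let R := S.presheaf.stalk (f x)
  let P := X.presheaf.stalk x
  letI : Algebra R P := (f.stalkMap x).hom.toAlgebra
  obtain ⟨δ, hδ⟩ := hδ
  haveI : IsLocalHom (algebraMap R P) := inferInstanceAs (IsLocalHom (f.stalkMap x).hom)
  haveI : Algebra.EssFiniteType R P := LocallyOfFiniteType.stalkMap f x
  haveI : Algebra.FormallySmooth R P := by
    have h0 : x ∈ f.smoothLocus := by rw [Scheme.Hom.smoothLocus_eq_top]; trivial
    exact Scheme.Hom.mem_smoothLocus.1 h0
  obtain ⟨U₀, hU₀, hx₀, h₀, hg₀, hnz₀, -, -⟩ := Groth.Agent.S1348.result f x (Flat.stalkMap f x) h hm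
    (mk_mem_nonZeroDivisors h hm δ hδ)
  obtain ⟨_, ⟨V, hV, rfl⟩, hxV, -⟩ :=
    S.isBasis_affineOpens.exists_subset_of_mem_open (Set.mem_univ (f x)) isOpen_univ
  obtain ⟨t, ht₀, htx⟩ := hU₀.exists_basicOpen_le (V := f ⁻¹ᵁ V) ⟨x, hxV⟩ hx₀
  let U := X.basicOpen t
  have hU : IsAffineOpen U := hU₀.basicOpen t
  let B := Γ(X, U)
  let A := Γ(S, V)
  let h₁ : B := X.presheaf.map (homOfLE (X.basicOpen_le t)).op h₀
  haveI := hU₀.isLocalization_basicOpen t
  have hnz₁ : h₁ ∈ nonZeroDivisors B :=
    IsLocalization.map_nonZeroDivisors_le (Submonoid.powers t) B ⟨h₀, hnz₀, rfl⟩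
  have hg₁ : X.presheaf.germ U x htx h₁ = h :=
    (TopCat.Presheaf.germ_res_apply X.presheaf (homOfLE (X.basicOpen_le t)) x htx h₀).trans hg₀
  letI : Algebra A B := (f.appLE V U ht₀).hom.toAlgebra
  haveI : Algebra.FinitePresentation A B := f.finitePresentation_appLE hV hU ht₀
  letI : Algebra B P := (X.presheaf.germ U x htx).hom.toAlgebra
  let q := (hU.primeIdealOf ⟨x, htx⟩).asIdeal
  haveI : IsLocalization q.primeCompl P := hU.isLocalization_stalk ⟨x, htx⟩
  letI : Algebra A R := (S.presheaf.germ V (f x) hxV).hom.toAlgebra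
  haveI : IsLocalization (hV.primeIdealOf ⟨f x, hxV⟩).asIdeal.primeCompl R := hV.isLocalization_stalk ⟨f x, hxV⟩
  letI : Algebra A P := ((algebraMap R P).comp (algebraMap A R)).toAlgebra
  haveI : IsScalarTower A R P := IsScalarTower.of_algebraMap_eq fun _ => rfl
  haveI : IsScalarTower A B P := IsScalarTower.of_algebraMap_eq fun a => by
    show f.stalkMap x (S.presheaf.germ V (f x) hxV a) = X.presheaf.germ U x htx (f.appLE V U ht₀ a)
    rw [Scheme.Hom.germ_stalkMap_apply]
    exact (TopCat.Presheaf.germ_res_apply X.presheaf (homOfLE ht₀) x htx _).symm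
  haveI : Algebra.FormallySmooth A R :=
    Algebra.FormallySmooth.of_isLocalization (hV.primeIdealOf ⟨f x, hxV⟩).asIdeal.primeCompl
  haveI : Algebra.FormallySmooth R (P ⧸ Ideal.span {h}) := formallySmooth_quotient h δ hδ
  haveI : Algebra.FormallySmooth A (P ⧸ Ideal.span {h}) := Algebra.FormallySmooth.comp A R _
  let I : Ideal B := Ideal.span {h₁}
  let C := B ⧸ I
  have hIP : I.map (algebraMap B P) = Ideal.span {h} := by
    rw [Ideal.map_span, Set.image_singleton]
    exact congrArg (fun z => Ideal.span {z}) hg₁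
  haveI : Algebra.FormallySmooth A (P ⧸ I.map (algebraMap B P)) :=
    Algebra.FormallySmooth.of_equiv (Ideal.quotientEquivAlgOfEq A hIP).symm
  have hIq : I ≤ q := by
    rw [Ideal.span_le, Set.singleton_subset_iff]
    by_contra hn
    refine (IsLocalRing.mem_maximalIdeal _).1 hm ?_
    rw [← hg₁]
    exact IsLocalization.map_units P (⟨h₁, hn⟩ : q.primeCompl)
  haveI : (q.map (Ideal.Quotient.mk I)).IsPrime :=
    Ideal.map_isPrime_of_surjective Ideal.Quotient.mk_surjective (by rw [Ideal.mk_ker]; exact hIq)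
  let Q : Ideal C := q.map (Ideal.Quotient.mk I)
  have hQ : Q.comap (Ideal.Quotient.mk I) = q := Ideal.comap_map_mk hIq
  have hM : Algebra.algebraMapSubmonoid C q.primeCompl = Q.primeCompl := by
    ext y
    constructor
    · rintro ⟨z, hz, rfl⟩ hzQ
      exact hz (hQ ▸ hzQ : z ∈ q)
    · intro hy
      obtain ⟨z, rfl⟩ := Ideal.Quotient.mk_surjective y
      exact ⟨z, fun hz => hy (Ideal.mem_map_of_mem _ hz), rfl⟩
  haveI : IsLocalization Q.primeCompl (P ⧸ I.map (algebraMap B P)) :=
    hM ▸ inferInstanceAs (IsLocalization (Algebra.algebraMapSubmonoid C q.primeCompl) _)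
  haveI : IsScalarTower A C (P ⧸ I.map (algebraMap B P)) := IsScalarTower.of_algebraMap_eq fun a =>
    congrArg (Ideal.Quotient.mk _) (IsScalarTower.algebraMap_apply A B P a)
  haveI : Algebra.IsSmoothAt A Q :=
    Algebra.FormallySmooth.of_equiv ((IsLocalization.algEquiv Q.primeCompl (P ⧸ I.map (algebraMap B P))
      (Localization.AtPrime Q)).restrictScalars A)
  haveI : Algebra.FinitePresentation A C :=
    Algebra.FinitePresentation.quotient (Submodule.fg_span_singleton h₁)
  obtain ⟨c, hc, hcs⟩ := Algebra.IsSmoothAt.exists_notMem_smooth A Q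
  obtain ⟨r, rfl⟩ := Ideal.Quotient.mk_surjective c
  let W := X.basicOpen r
  have hW : IsAffineOpen W := hU.basicOpen r
  have hxW : x ∈ W := by
    have h1 : hU.primeIdealOf ⟨x, htx⟩ ∈ PrimeSpectrum.basicOpen r := fun hr => hc (Ideal.mem_map_of_mem _ hr)
    rw [← hU.fromSpec_preimage_basicOpen, Scheme.Hom.mem_preimage, hU.fromSpec_primeIdealOf] at h1
    exact h1
  let B' := Γ(X, W)
  haveI := hU.isLocalization_basicOpen r
  let h₂ : B' := algebraMap B B' h₁
  refine ⟨W, hW, hxW, h₂, (TopCat.Presheaf.germ_res_apply X.presheaf (homOfLE (X.basicOpen_le r)) x hxW h₁).trans hg₁,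
    IsLocalization.map_nonZeroDivisors_le (Submonoid.powers r) B' ⟨h₁, hnz₁, rfl⟩, ?_⟩
  have hJ : I.map (algebraMap B B') = Ideal.span {h₂} := by rw [Ideal.map_span, Set.image_singleton]
  haveI : IsLocalization (Submonoid.powers (Ideal.Quotient.mk I r)) (B' ⧸ I.map (algebraMap B B')) := by
    rw [show Submonoid.powers (Ideal.Quotient.mk I r) = Algebra.algebraMapSubmonoid C (Submonoid.powers r) from
      (Algebra.algebraMapSubmonoid_powers (S := C) r).symm]
    infer_instance
  have hWV : W ≤ f ⁻¹ᵁ V := (X.basicOpen_le r).trans ht₀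
  letI : Algebra A B' := (f.appLE V W hWV).hom.toAlgebra
  haveI : IsScalarTower A B B' := IsScalarTower.of_algebraMap_eq' <| by
    show (f.appLE V W hWV).hom = (X.presheaf.map (homOfLE (X.basicOpen_le r)).op).hom.comp (f.appLE V U ht₀).hom
    rw [← CommRingCat.hom_comp, Scheme.Hom.appLE_map]
  haveI : IsScalarTower A C (B' ⧸ I.map (algebraMap B B')) := IsScalarTower.of_algebraMap_eq fun a =>
    congrArg (Ideal.Quotient.mk _) (IsScalarTower.algebraMap_apply A B B' a)
  haveI : Algebra.Smooth A (B' ⧸ I.map (algebraMap B B')) :=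
    .of_equiv ((IsLocalization.algEquiv (Submonoid.powers (Ideal.Quotient.mk I r))
      (Localization.Away (Ideal.Quotient.mk I r)) (B' ⧸ I.map (algebraMap B B'))).restrictScalars A)
  haveI : Algebra.Smooth A (B' ⧸ Ideal.span {h₂}) := .of_equiv (Ideal.quotientEquivAlgOfEq A hJ)
  rw [← IsAffineOpen.SpecMap_appLE_fromSpec f hV hW hWV, ← Category.assoc, ← Spec.map_comp]
  haveI : Smooth (Spec.map (f.appLE V W hWV ≫ CommRingCat.ofHom (Ideal.Quotient.mk (Ideal.span {h₂})))) :=
    (HasRingHomProperty.Spec_iff (P := @Smooth)).2 (RingHom.smooth_algebraMap.2 ‹_›)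
  infer_instance

end GrothLib.SmoothDiv6
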